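import Cfsg.Agent.HNRep.Basic

/-!
The matrices satisfy the relators of the presented Harada-Norton group.
-/

set_option autoImplicit false
set_option Elab.async false

namespace Cfsg.Lib.HNRep

set_option maxHeartbeats 4000000 in
theorem relators_ok : ∀ r ∈ Cfsg.Spor.coxRelators Cfsg.Spor.HN.edges ∪ {r | r ∈ Cfsg.Spor.HN.extra}, rho r = 1 := by
  intro r hr
  rcases hr with ⟨a, ha, -⟩ | hr
  · simp [Cfsg.Spor.coxNodes, Cfsg.Spor.HN.edges] at ha
  · simp only [Cfsg.Spor.HN.extra, Set.mem_setOf_eq, List.mem_cons, List.not_mem_nil, or_false] at hr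
    rcases hr with rfl | rfl | rfl | rfl | rfl | rfl | rfl | rfl | rfl | rfl | rfl | rfl | rfl | rfl
    all_goals try simp only [mul_inv_rev, ← inv_pow, inv_inv]
    all_goals apply Ok.eq_one
    all_goals try (with_reducible repeat' first
      | exact ok_x | exact ok_y | exact ok_z | exact ok_t | exact ok_xi | exact ok_yi | exact ok_zi | exact ok_ti
      | apply Ok.mul | apply Ok.pow)
    all_goals decide +kernel

theorem x_sq_ne_one : rho (Cfsg.Spor.HN.x ^ 2) ≠ 1 :=
  ((ok_x.pow 2)).ne_one (by decide +kernel) (by decide +kernel)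

/-- The homomorphism of the presented Harada-Norton group into the matrices. -/
def psi : Cfsg.Spor.HN →* Matˣ := PresentedGroup.toGroup (f := genUnit) relators_ok

theorem psi_of (g : Cfsg.Spor.HN.Gen) : psi (PresentedGroup.of g) = genUnit g :=
  PresentedGroup.toGroup.of relators_ok

end Cfsg.Lib.HNRep
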