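import Mathlib

/-!
Products of matrices over the integers modulo eleven, rows packed in natural numbers in fields of sixteen bits.
-/

set_option autoImplicit false

namespace Cfsg.Lib.HNRep

/-- A field. -/
def fld : ℕ → ℕ → ℕ
  | n, 0 => n % 65536
  | n, j + 1 => fld (n / 65536) j

/-- The combination of packed rows with the fields of `v` as coefficients. -/
def comb : ℕ → List ℕ → ℕ
  | _, [] => 0
  | v, r :: A => v % 65536 * r + comb (v / 65536) A

/-- Reduce the first fields modulo eleven. -/
def red : ℕ → ℕ → ℕ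
  | 0, _ => 0
  | k + 1, x => x % 65536 % 11 + 65536 * red k (x / 65536)

/-- The product of two matrices. -/
def mmul (n : ℕ) (A B : List ℕ) : List ℕ := A.map fun r => red n (comb r B)

/-- All fields of a row are below eleven. -/
def rowOK : ℕ → ℕ → Bool
  | 0, x => x == 0
  | k + 1, x => decide (x % 65536 < 11) && rowOK k (x / 65536)

/-- A packed matrix of the given size. -/
def matOK (n : ℕ) (A : List ℕ) : Bool := A.length == n && A.all (rowOK n)

/-- The identity matrix. -/
def idMat (n : ℕ) : List ℕ := (List.range n).map fun i => 65536 ^ i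

/-- The powers of a matrix. -/
def mpow (n : ℕ) (A : List ℕ) : ℕ → List ℕ
  | 0 => idMat n
  | k + 1 => mmul n (mpow n A k) A

/-- The matrix described by packed rows. -/
def toMat (n : ℕ) (A : List ℕ) : Matrix (Fin n) (Fin n) (ZMod 11) :=
  Matrix.of fun i j => (fld (A.getD i.val 0) j.val : ZMod 11)

theorem fld_zero : ∀ j : ℕ, fld 0 j = 0
  | 0 => rfl
  | j + 1 => by simp [fld, fld_zero j]

theorem fld_lt : ∀ (j : ℕ) {k x : ℕ}, rowOK k x = true → fld x j ≤ 10
  | 0, 0, x, h => by simp [rowOK] at h; simp [fld, h]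
  | 0, k + 1, x, h => by simp [rowOK] at h; simp [fld]; omega
  | j + 1, 0, x, h => by simp [rowOK] at h; simp [fld, h, fld_zero]
  | j + 1, k + 1, x, h => by
    simp [rowOK] at h
    exact fld_lt j h.2

theorem fld_add : ∀ (j a b : ℕ), (∀ i, fld a i + fld b i < 65536) →
    fld (a + b) j = fld a j + fld b j
  | 0, a, b, h => by
    have := h 0
    simp only [fld] at this ⊢
    omega
  | j + 1, a, b, h => by
    have h0 := h 0
    simp only [fld] at h0
    have e : (a + b) / 65536 = a / 65536 + b / 65536 := by omega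
    simp only [fld, e]
    exact fld_add j _ _ fun i => h (i + 1)

theorem fld_smul : ∀ (j c b : ℕ), (∀ i, c * fld b i < 65536) → fld (c * b) j = c * fld b j
  | 0, c, b, h => by
    have := h 0
    simp only [fld] at this ⊢
    rw [Nat.mul_mod, Nat.mod_eq_of_lt]
    · rcases Nat.lt_or_ge c 65536 with hc | hc
      · rw [Nat.mod_eq_of_lt hc]
      · rcases Nat.eq_zero_or_pos (b % 65536) with hb | hb
        · rw [hb, Nat.mul_zero, Nat.mul_zero]
        · nlinarith
    · exact lt_of_le_of_lt (Nat.mul_le_mul_right _ (Nat.mod_le c _)) this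
  | j + 1, c, b, h => by
    have h0 := h 0
    simp only [fld] at h0
    have e : c * b / 65536 = c * (b / 65536) := by
      conv_lhs => rw [← Nat.div_add_mod b 65536, Nat.mul_add, Nat.mul_left_comm]
      rw [Nat.mul_add_div (by norm_num), Nat.div_eq_of_lt h0, Nat.add_zero]
    simp only [fld, e]
    exact fld_smul j c _ fun i => h (i + 1)

theorem fld_comb : ∀ (A : List ℕ) (v j : ℕ), A.length ≤ 600 → (∀ i, fld v i ≤ 10) →
    (∀ r ∈ A, ∀ i, fld r i ≤ 10) →
    fld (comb v A) j ≤ 100 * A.length ∧
      fld (comb v A) j = ∑ i : Fin A.length, fld v i.val * fld A[i.val] j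
  | [], v, j, _, _, _ => by simp [comb, fld_zero]
  | r :: A, v, j, hl, hv, hA => by
    have hc : v % 65536 ≤ 10 := by simpa [fld] using hv 0
    have hr := hA r List.mem_cons_self
    have hl' : A.length ≤ 600 := by simp at hl; omega
    have ih := fun i => fld_comb A (v / 65536) i hl' (fun k => by simpa [fld] using hv (k + 1))
      (fun s hs => hA s (List.mem_cons_of_mem r hs))
    have h1 : ∀ i, v % 65536 * fld r i ≤ 100 := fun i => by
      calc v % 65536 * fld r i ≤ 10 * 10 := Nat.mul_le_mul hc (hr i)
        _ = 100 := by norm_num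
    have h2 : ∀ i, fld (v % 65536 * r) i = v % 65536 * fld r i := fun i =>
      fld_smul i _ _ fun k => by have := h1 k; omega
    have h3 : fld (comb v (r :: A)) j = v % 65536 * fld r j + fld (comb (v / 65536) A) j := by
      rw [comb, fld_add j _ _ fun i => ?_, h2]
      rw [h2]
      have := h1 i
      have := (ih i).1
      omega
    refine ⟨?_, ?_⟩
    · rw [h3]
      have := h1 j
      have := (ih j).1
      simp
      omega
    · rw [h3, (ih j).2]
      simp [Fin.sum_univ_succ, fld]

theorem fld_red : ∀ (k x j : ℕ), fld (red k x) j = if j < k then fld x j % 11 else 0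
  | 0, x, j => by simp [red, fld_zero]
  | k + 1, x, 0 => by simp [red, fld]; omega
  | k + 1, x, j + 1 => by
    have e : red (k + 1) x / 65536 = red k (x / 65536) := by simp [red]; omega
    simp [fld, e, fld_red k]

theorem rowOK_red : ∀ (k x : ℕ), rowOK k (red k x) = true
  | 0, x => by simp [red, rowOK]
  | k + 1, x => by
    have e : red (k + 1) x / 65536 = red k (x / 65536) := by simp [red]; omega
    have e' : red (k + 1) x % 65536 < 11 := by simp [red]; omega
    simp [rowOK, e, e', rowOK_red k]

theorem rowOK_pow : ∀ (k i : ℕ), i < k → rowOK k (65536 ^ i) = true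
  | 0, i, h => by omega
  | k + 1, 0, _ => by
    have : ∀ m : ℕ, rowOK m 0 = true := fun m => by induction m <;> simp [rowOK, *]
    simp [rowOK, this]
  | k + 1, i + 1, h => by
    simp [rowOK, pow_succ, rowOK_pow k i (by omega)]

theorem fld_pow : ∀ (i j : ℕ), fld (65536 ^ i) j = if i = j then 1 else 0
  | 0, 0 => rfl
  | 0, j + 1 => by simp [fld, fld_zero]
  | i + 1, 0 => by simp [fld, pow_succ]
  | i + 1, j + 1 => by simp [fld, pow_succ, fld_pow i j]

theorem matOK_idMat (n : ℕ) : matOK n (idMat n) = true := by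
  simp only [matOK, idMat, List.length_map, List.length_range, BEq.rfl, Bool.true_and, List.all_eq_true,
    List.mem_map, List.mem_range]
  rintro r ⟨i, hi, rfl⟩
  exact rowOK_pow n i hi

theorem matOK_mmul {n : ℕ} {A B : List ℕ} (hA : matOK n A = true) : matOK n (mmul n A B) = true := by
  simp only [matOK, Bool.and_eq_true, beq_iff_eq, List.all_eq_true] at hA
  simp only [matOK, mmul, List.length_map, hA.1, BEq.rfl, Bool.true_and, List.all_eq_true, List.mem_map]
  rintro r ⟨a, -, rfl⟩
  exact rowOK_red _ _

theorem toMat_idMat (n : ℕ) : toMat n (idMat n) = 1 := by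
  ext i j
  have h : (idMat n).getD i.val 0 = 65536 ^ i.val := by
    rw [List.getD_eq_getElem _ _ (by simp [idMat])]
    simp [idMat]
  rw [toMat, Matrix.of_apply, h, fld_pow, Matrix.one_apply]
  by_cases e : i = j
  · simp [e]
  · simp [e, Fin.val_ne_of_ne e]

theorem toMat_mmul {n : ℕ} (hn : n ≤ 600) {A B : List ℕ} (hA : matOK n A = true) (hB : matOK n B = true) :
    toMat n (mmul n A B) = toMat n A * toMat n B := by
  simp only [matOK, Bool.and_eq_true, beq_iff_eq, List.all_eq_true] at hA hB
  obtain ⟨hAl, hA⟩ := hA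
  obtain ⟨rfl, hB⟩ := hB
  ext i j
  have hi : i.val < A.length := by rw [hAl]; exact i.isLt
  have e : (mmul B.length A B).getD i.val 0 = red B.length (comb (A.getD i.val 0) B) := by
    rw [List.getD_eq_getElem _ _ (by simp [mmul, hi]), List.getD_eq_getElem _ _ hi]
    simp [mmul]
  have hr : A.getD i.val 0 ∈ A := by
    rw [List.getD_eq_getElem _ _ hi]; exact List.getElem_mem hi
  have hc := (fld_comb B (A.getD i.val 0) j.val hn (fun k => fld_lt k (hA _ hr))
    (fun r hr k => fld_lt k (hB r hr))).2
  rw [Matrix.mul_apply, toMat, Matrix.of_apply, e, fld_red, if_pos j.isLt, ZMod.natCast_mod, hc, Nat.cast_sum]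
  refine Finset.sum_congr rfl fun k _ => ?_
  rw [Nat.cast_mul, toMat, toMat, Matrix.of_apply, Matrix.of_apply, List.getD_eq_getElem B _ k.isLt]

end Cfsg.Lib.HNRep
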