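import Cfsg.Prelude.Def_Spor_HN
import Cfsg.Agent.HNRep.Packed
import Cfsg.Agent.HNRep.Data

/-!
A representation of degree 133 over the field with eleven elements of the presented Harada-Norton group.
-/

set_option autoImplicit false
set_option Elab.async false

namespace Cfsg.Lib.HNRep

/-- The matrices of degree 133. -/
abbrev Mat : Type := Matrix (Fin 133) (Fin 133) (ZMod 11)

theorem ok_data : matOK 133 matX = true ∧ matOK 133 matXi = true ∧ matOK 133 matY = true ∧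
    matOK 133 matYi = true ∧ matOK 133 matZ = true ∧ matOK 133 matT = true ∧ matOK 133 matTi = true := by
  decide +kernel

theorem inv_x : mmul 133 matX matXi = idMat 133 ∧ mmul 133 matXi matX = idMat 133 := by decide +kernel
theorem inv_y : mmul 133 matY matYi = idMat 133 ∧ mmul 133 matYi matY = idMat 133 := by decide +kernel
theorem inv_z : mmul 133 matZ matZ = idMat 133 ∧ mmul 133 matZ matZ = idMat 133 := by decide +kernel
theorem inv_t : mmul 133 matT matTi = idMat 133 ∧ mmul 133 matTi matT = idMat 133 := by decide +kernel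

/-- The unit of two inverse packed matrices. -/
def mkUnit (A B : List ℕ) (hA : matOK 133 A = true) (hB : matOK 133 B = true)
    (h : mmul 133 A B = idMat 133 ∧ mmul 133 B A = idMat 133) : Matˣ where
  val := toMat 133 A
  inv := toMat 133 B
  val_inv := by rw [← toMat_mmul (by norm_num) hA hB, h.1, toMat_idMat]
  inv_val := by rw [← toMat_mmul (by norm_num) hB hA, h.2, toMat_idMat]

/-- The images of the generators. -/
def genUnit : Cfsg.Spor.HN.Gen → Matˣ
  | .x => mkUnit matX matXi ok_data.1 ok_data.2.1 inv_x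
  | .y => mkUnit matY matYi ok_data.2.2.1 ok_data.2.2.2.1 inv_y
  | .z => mkUnit matZ matZ ok_data.2.2.2.2.1 ok_data.2.2.2.2.1 inv_z
  | .t => mkUnit matT matTi ok_data.2.2.2.2.2.1 ok_data.2.2.2.2.2.2 inv_t

/-- The action of the free group. -/
def rho : FreeGroup Cfsg.Spor.HN.Gen →* Matˣ := FreeGroup.lift genUnit

/-- The matrix of an element. -/
def Ok (g : FreeGroup Cfsg.Spor.HN.Gen) (A : List ℕ) : Prop :=
  matOK 133 A = true ∧ toMat 133 A = (rho g : Mat)

theorem Ok.mul {g h : FreeGroup Cfsg.Spor.HN.Gen} {A B : List ℕ} (hg : Ok g A) (hh : Ok h B) :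
    Ok (g * h) (mmul 133 A B) :=
  ⟨matOK_mmul hg.1, by rw [map_mul, Units.val_mul, toMat_mmul (by norm_num) hg.1 hh.1, hg.2, hh.2]⟩

theorem Ok.one : Ok 1 (idMat 133) := ⟨matOK_idMat 133, by rw [map_one, Units.val_one, toMat_idMat]⟩

theorem Ok.pow {g : FreeGroup Cfsg.Spor.HN.Gen} {A : List ℕ} (hg : Ok g A) : ∀ n : ℕ, Ok (g ^ n) (mpow 133 A n)
  | 0 => by rw [pow_zero]; exact Ok.one
  | n + 1 => by rw [pow_succ]; exact (hg.pow n).mul hg

theorem Ok.eq_one {g : FreeGroup Cfsg.Spor.HN.Gen} {A : List ℕ} (hg : Ok g A) (h : A = idMat 133) : rho g = 1 :=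
  Units.ext (by rw [← hg.2, h, toMat_idMat, Units.val_one])

theorem Ok.ne_one {g : FreeGroup Cfsg.Spor.HN.Gen} {A : List ℕ} (hg : Ok g A) (h : fld (A.getD 0 0) 0 ≠ 1)
    (hlt : fld (A.getD 0 0) 0 < 11) : rho g ≠ 1 := fun e => by
  have h' := congrFun (congrFun hg.2 (0 : Fin 133)) (0 : Fin 133)
  rw [e, Units.val_one, Matrix.one_apply_eq] at h'
  change ((fld (A.getD 0 0) 0 : ℕ) : ZMod 11) = 1 at h'
  rw [← Nat.cast_one, ZMod.natCast_eq_natCast_iff', Nat.mod_eq_of_lt hlt] at h'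
  exact h h'

theorem ok_x : Ok Cfsg.Spor.HN.x matX := ⟨ok_data.1, by simp [rho, genUnit, mkUnit]⟩
theorem ok_xi : Ok Cfsg.Spor.HN.x⁻¹ matXi := ⟨ok_data.2.1, by simp [rho, genUnit, mkUnit, Units.inv]⟩
theorem ok_y : Ok Cfsg.Spor.HN.y matY := ⟨ok_data.2.2.1, by simp [rho, genUnit, mkUnit]⟩
theorem ok_yi : Ok Cfsg.Spor.HN.y⁻¹ matYi := ⟨ok_data.2.2.2.1, by simp [rho, genUnit, mkUnit, Units.inv]⟩
theorem ok_z : Ok Cfsg.Spor.HN.z matZ := ⟨ok_data.2.2.2.2.1, by simp [rho, genUnit, mkUnit]⟩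
theorem ok_zi : Ok Cfsg.Spor.HN.z⁻¹ matZ := ⟨ok_data.2.2.2.2.1, by simp [rho, genUnit, mkUnit, Units.inv]⟩
theorem ok_t : Ok Cfsg.Spor.HN.t matT := ⟨ok_data.2.2.2.2.2.1, by simp [rho, genUnit, mkUnit]⟩
theorem ok_ti : Ok Cfsg.Spor.HN.t⁻¹ matTi := ⟨ok_data.2.2.2.2.2.2, by simp [rho, genUnit, mkUnit, Units.inv]⟩

end Cfsg.Lib.HNRep
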